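import Cfsg.Agent.Spor.Chk2
import Cfsg.Agent.Spor.Ly3906.D0

set_option autoImplicit false
set_option maxRecDepth 100000000
set_option Elab.async false
noncomputable section

namespace Cfsg.Agent.Spor.Ly3906.S

def W1 : List (List Nat) := [[1], [3], [5], [7]]

def W2 : List (List Nat) := [[1], [3], [5]]

def M3 : Nat := nat_lit 0x340000000000000000000001000000000000000086000000000000000000000000000000000000000000000000000000000000000000000000000000004a3834a00000000000000000000000000000000000000000000000000000000000000000000000000000000000000000000000000000000000000000000000000000000000000000000000000000000000000000000000000000000000000000000000000000000000000000000000000000000000000000000000000000000000000000000000000000000000000000000000000000000000000000000000000000000000000000000000000000000000000000000000000000000000000000000000210000000000000000000000000000000000000000000000000000000000000000000000000000000000000000000000000000000004034a000000000000000000000000000000000000000000000000000000000000000000000000000000000000000000000000000000000000000000000000000000000000000000000000000000000000000000000000000000000000000000000000000000000000000000000000000000a0000000000000000000000000000000000900000000000000000000000000000000000000000000000000000000000000000000000000000000000000000000000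

def M9 : Nat := nat_lit 0xa000000000000000000004ebc000540c000000000200270000280000000c0000330000000400e0000ff000000000000000018000000000000000000600000000000007e0caa670123700100000407270f2ce001980000019f8a88bc24306f001800000000400400800e000000000000000000000000000000000000000000000000000000000000000000000000000000000000000000000fffffffe000000000000001c00000000004000000000000000000000000000000000000000800000000000000000100000fc000003090008268400000000000036cfcd9767b7e6c7f6ffc21982afffe0000000006d5f801029fffff000000000000000000000000002803ff7ec6d760000000060000000000003e0000001034e0000e2300820060001fffffe00000000000000000000000000001300300000000005760edf3a0adafe0016400303ebe754c0148430247f0827948b38000000301818180000000000000000000000000000000000000000000000000000000001ffffff80000018100200808000000008041400000003ff013849401007bf77fdbfffb5bff0007f830affc0000000001f6e0000000604e049040ffc00000000b2003bdbf013ea8938980aa0000000000000000000ff0102002001c845fffe3d3003012498083c8a000003809f52240480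

def M15 : Nat := nat_lit 0x1ffffffffffffffffffffb043fffabf3fffffff79dffd8ffffd7fffffff3ffffccfffffffbff1ffff00ffffffffffffffffe7ffffffffffffffffff9fb5c7cb5fffff81f35598fedc8ffefffffbf8d8f0d31ffe67fffffe60757743dbcf90ffe7ffffffffbffbff7ff1fffffffffffffffffffffffffffffffffffffffffffffffffffffffffffffffffffffffffffffffffffffffffffff00000001ffffffffffffffe3ffffffffffbfffffffffffffffffffffffffffffffffffffff7fffffffffffffffffefffff03fffffcf6fff7d97bffffffffffffc93032689848193809003de67d50001fffffffff92a07fefd600000ffffffffffffffffffffffffded7fc008139289ffffffff9ffffffffffffc1ffffffefcb1ffff1dcff7dff9fffe000001ffffffffffffffffffffffffffffecffcfbfcb5ffffa89f120c5f52501ffe9bffcfc1418ab3feb7bcfdb80f7d86b74c7ffffffcfe7e7e7fffffffffffffffffffffffffffffffffffffffffffffffffffffffffe0000007fffffe7effdff7f7ffffffff7fbebfffffffc00fec7b6bfeff840880240004a400fff807cf5003ffffffff5e091fffffff9fb1fb6fbf003ffffffff4d6fc4240fec1576c767f55fffffffffffffffffff00fefdffdffe37ba0001c2cffcfedb67f7c375fffffc7f60addbfb7e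

def U : Tab := ⟨[n0, n1, n2, n3, n4, n5, n6, n7, n8], [⟨0, false, 0, 0, []⟩, ⟨0, false, 0, 0, []⟩, ⟨0, true, 0, 0, []⟩, ⟨1, false, 0, 0, []⟩, ⟨1, true, 0, 0, []⟩, ⟨2, false, 0, 0, []⟩, ⟨2, true, 0, 0, []⟩, ⟨3, false, 0, 0, []⟩, ⟨3, true, 0, 0, []⟩, ⟨4, false, 0, 0, []⟩, ⟨4, true, 0, 0, []⟩, ⟨5, false, 0, 0, []⟩, ⟨5, true, 0, 0, []⟩, ⟨6, false, 0, 0, []⟩, ⟨6, true, 0, 0, []⟩, ⟨7, false, 0, 0, []⟩, ⟨7, true, 0, 0, []⟩, ⟨8, false, 0, 0, []⟩, ⟨8, true, 0, 0, []⟩]⟩

end Cfsg.Agent.Spor.Ly3906.S
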